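import Groth.Agent.Csa25.Index
import Groth.Agent.Csa25.TensorPower

/-!
# Index bookkeeping
-/

set_option autoImplicit false
open scoped TensorProduct
open Module

namespace Groth.Agent.Brauer24

universe u v w

open Groth.Agent.Csa25

variable {k : Type u} [Field k] {A : Type v} [Ring A] [Algebra k A] [Algebra.IsCentral k A]
  [IsSimpleRing A] [FiniteDimensional k A]

theorem pos_of_algEquiv {D : Type w} [DivisionRing D] [Algebra k D] [FiniteDimensional k D] {m d : ℕ}
    (e : A ≃ₐ[k] Matrix (Fin m) (Fin m) D) (hd : finrank k D = d ^ 2) : 0 < m ∧ 0 < d := by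
  refine ⟨Nat.pos_of_ne_zero ?_, Nat.pos_of_ne_zero ?_⟩
  · rintro rfl
    exact not_subsingleton A e.toEquiv.subsingleton
  · rintro rfl
    have : 0 < finrank k D := Module.finrank_pos
    simp [hd] at this

/-- Any presentation over a central division algebra, in any universe, computes the index. -/
theorem isIndex_of_matrix {D : Type w} [DivisionRing D] [Algebra k D]
    [FiniteDimensional k D] {m d : ℕ}
    (e : A ≃ₐ[k] Matrix (Fin m) (Fin m) D) (hd : finrank k D = d ^ 2) : CSAGal.IsIndex k A d := by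
  obtain ⟨hm, hd0⟩ := pos_of_algEquiv e hd
  obtain ⟨a, ha⟩ := exists_isIndex (k := k) A
  obtain ⟨-, m', E, _, _, hm', _, _, hE, ⟨eE⟩⟩ := isIndex_data ha
  obtain ⟨-, ⟨eD⟩⟩ := matrix_divisionRing_unique hm hm' (e.symm.trans eE)
  have h := eD.toLinearEquiv.finrank_eq
  rw [hd, hE, pow_two] at h
  rwa [Nat.mul_self_inj.mp h]

theorem splits_tpow_index {D : Type w} [DivisionRing D] [Algebra k D]
    [FiniteDimensional k D] {m d : ℕ}
    (e : A ≃ₐ[k] Matrix (Fin m) (Fin m) D) (hd : finrank k D = d ^ 2) :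
    Curves.Splits k (⨂[k] _i : Fin d, A) k :=
  (splits_tpow_iff k A d).mpr (cl_pow_index (isIndex_of_matrix e hd))

theorem splits_tpow_finrank (K : Type w) [Field K] [Algebra k K] [FiniteDimensional k K]
    (h : Curves.Splits k A K) : Curves.Splits k (⨂[k] _i : Fin (finrank k K), A) k := by
  obtain ⟨a, ha⟩ := exists_isIndex (k := k) A
  obtain ⟨c, hc⟩ := isIndex_dvd_finrank_of_splits ha K h
  refine (splits_tpow_iff k A _).mpr ?_
  rw [hc, pow_mul, cl_pow_index ha, one_pow]

theorem prime_dvd_of_splits_tpow {D : Type w} [DivisionRing D] [Algebra k D]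
    [FiniteDimensional k D] {m d : ℕ}
    (iso : A ≃ₐ[k] Matrix (Fin m) (Fin m) D) (hd : finrank k D = d ^ 2) {e : ℕ}
    (hsplit : Curves.Splits k (⨂[k] _i : Fin e, A) k) {p : ℕ} (hp : p.Prime) (hpd : p ∣ d) :
    p ∣ e :=
  (prime_dvd_orderOf (isIndex_of_matrix iso hd) hp hpd).trans
    (orderOf_dvd_of_pow_eq_one ((splits_tpow_iff k A e).mp hsplit))

theorem splits_tensor {B : Type w} [Ring B] [Algebra k B] [Algebra.IsCentral k B] [IsSimpleRing B]
    [FiniteDimensional k B] (K : Type*) [Field K] [Algebra k K]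
    (hA : Curves.Splits k A K) (hB : Curves.Splits k B K) : Curves.Splits k (A ⊗[k] B) K := by
  rw [splits_iff_res_eq_one] at hA hB ⊢
  rw [cl_tensor, map_mul, hA, hB, mul_one]

theorem index_baseChange (K : Type u) [Field K] [Algebra k K] [FiniteDimensional k K]
    {D : Type w} [DivisionRing D] [Algebra k D] [FiniteDimensional k D] {m d : ℕ}
    (iso : A ≃ₐ[k] Matrix (Fin m) (Fin m) D) (hd : finrank k D = d ^ 2)
    {D' : Type*} [DivisionRing D'] [Algebra K D'] [FiniteDimensional K D'] {m' d' : ℕ}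
    (iso' : (K ⊗[k] A) ≃ₐ[K] Matrix (Fin m') (Fin m') D') (hd' : finrank K D' = d' ^ 2) :
    d' ∣ d ∧ d ∣ finrank k K * d' :=
  isIndex_dvd_finrank_mul K (isIndex_of_matrix iso hd) (isIndex_of_matrix iso' hd')

end Groth.Agent.Brauer24
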