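import Groth.Agent.Csa25.Period
import Groth.Agent.Brauer24.Index
import Mathlib.Data.Fin.Tuple.Sort
import Mathlib.Data.Finset.Sort
import Mathlib.LinearAlgebra.Matrix.Determinant.Basic

/-!
# The index of a tensor power divides a binomial coefficient
-/

set_option autoImplicit false
open scoped TensorProduct
open Module Matrix

namespace Groth.Agent.Brauer24

universe u v w

open Groth.Agent.Csa25

section Kron

variable {R : Type u} [CommRing R] (n r : ℕ)

/-- The Kronecker product of `r` square matrices of size `n`. -/
def kron (M : Fin r → Matrix (Fin n) (Fin n) R) :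
    Matrix (Fin r → Fin n) (Fin r → Fin n) R :=
  Matrix.of fun I J => ∏ i, M i (I i) (J i)

theorem kron_mul (M N : Fin r → Matrix (Fin n) (Fin n) R) :
    kron n r M * kron n r N = kron n r (fun i => M i * N i) := by
  ext I J
  simp only [kron, Matrix.mul_apply, Matrix.of_apply, ← Finset.prod_mul_distrib]
  exact (Fintype.prod_sum fun i l => M i (I i) l * N i l (J i)).symm

theorem kron_one : kron n r (fun _ => (1 : Matrix (Fin n) (Fin n) R)) = 1 := by
  ext I J
  simp only [kron, Matrix.of_apply, Matrix.one_apply]
  by_cases h : I = J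
  · simp [h]
  · rw [if_neg h]
    obtain ⟨i, hi⟩ := Function.ne_iff.mp h
    exact Finset.prod_eq_zero (Finset.mem_univ i) (if_neg hi)

/-- The antisymmetrizer. -/
def asym : Matrix (Fin r → Fin n) (Fin r → Fin n) R :=
  Matrix.of fun I J => ((1 : Matrix (Fin n) (Fin n) R).submatrix I J).det

theorem kron_mul_asym (g : Matrix (Fin n) (Fin n) R) :
    kron n r (fun _ => g) * asym n r = Matrix.of fun I J => (g.submatrix I J).det := by
  classical
  ext I J
  simp only [kron, asym, Matrix.mul_apply, Matrix.of_apply]
  have h2 : ∀ i, (g.submatrix I J) i =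
      ∑ l, g (I i) l • ((1 : Matrix (Fin n) (Fin n) R).submatrix id J) l := by
    intro i
    ext b
    simp [Matrix.one_apply, Finset.sum_apply]
  have h3 : (g.submatrix I J).det =
      Matrix.detRowAlternating.toMultilinearMap
        (fun i => ∑ l, g (I i) l • ((1 : Matrix (Fin n) (Fin n) R).submatrix id J) l) :=
    congrArg Matrix.det (funext h2 : g.submatrix I J =
      Matrix.of fun i => ∑ l, g (I i) l • ((1 : Matrix (Fin n) (Fin n) R).submatrix id J) l)
  rw [h3, MultilinearMap.map_sum]
  refine Finset.sum_congr rfl fun L _ => ?_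
  rw [MultilinearMap.map_smul_univ]
  rfl

theorem asym_transpose : ((asym n r : Matrix _ _ R))ᵀ = asym n r := by
  ext I J
  simp only [asym, Matrix.transpose_apply, Matrix.of_apply]
  rw [← Matrix.det_transpose, Matrix.transpose_submatrix, Matrix.transpose_one]

theorem kron_comm_asym (g : Matrix (Fin n) (Fin n) R) :
    kron n r (fun _ => g) * asym n r = asym n r * kron n r (fun _ => g) := by
  have h : (kron n r (fun _ => g))ᵀ = kron n r (fun _ => gᵀ) := by
    ext I J; simp [kron]
  have h2 : asym n r * kron n r (fun _ => g) = (kron n r (fun _ => gᵀ) * asym n r)ᵀ := by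
    rw [Matrix.transpose_mul, asym_transpose, ← h, Matrix.transpose_transpose]
  rw [h2, kron_mul_asym, kron_mul_asym]
  ext I J
  simp only [Matrix.transpose_apply, Matrix.of_apply]
  rw [← Matrix.det_transpose, Matrix.transpose_submatrix]

theorem map_asym {S : Type v} [CommRing S] (f : R →+* S) :
    (asym n r : Matrix _ _ R).map f = asym n r := by
  ext I J
  simp [asym, RingHom.map_det, RingHom.mapMatrix_apply, ← Matrix.submatrix_map, Matrix.map_one]

/-- Strictly increasing index tuples. -/
abbrev Inc : Type := {S : Fin r → Fin n // StrictMono S}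

/-- The rows of the antisymmetrizer at increasing tuples. -/
def incRows : Matrix (Inc n r) (Fin r → Fin n) R := (asym n r).submatrix Subtype.val id

theorem asym_inc (S T : Inc n r) :
    (asym n r : Matrix _ _ R) S.1 T.1 = if S = T then 1 else 0 := by
  classical
  simp only [asym, Matrix.of_apply]
  split_ifs with h
  · subst h
    rw [Matrix.submatrix_one _ S.2.injective, Matrix.det_one]
  · obtain ⟨a, ha⟩ : ∃ a, S.1 a ∉ Set.range T.1 := by
      by_contra! hc
      apply h
      have hsub : Finset.univ.image S.1 ⊆ Finset.univ.image T.1 := by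
        intro x hx
        obtain ⟨a, -, rfl⟩ := Finset.mem_image.mp hx
        obtain ⟨b, hb⟩ := hc a
        exact Finset.mem_image.mpr ⟨b, Finset.mem_univ _, hb⟩
      have heq := Finset.eq_of_subset_of_card_le hsub (by
        rw [Finset.card_image_of_injective _ S.2.injective,
          Finset.card_image_of_injective _ T.2.injective])
      refine Subtype.ext ((S.2.range_inj T.2).mp ?_)
      have := congrArg (fun s : Finset (Fin n) => (s : Set (Fin n))) heq
      simpa using this
    refine Matrix.det_eq_zero_of_row_eq_zero a fun b => ?_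
    simp only [Matrix.submatrix_apply, Matrix.one_apply]
    exact if_neg fun hh => ha ⟨b, hh.symm⟩

theorem exists_asym_eq_mul :
    ∃ C : Matrix (Fin r → Fin n) (Inc n r) R, asym n r = C * incRows n r := by
  classical
  have key : ∀ I : Fin r → Fin n, ∃ c : Inc n r → R,
      ∀ J, (asym n r : Matrix _ _ R) I J = ∑ S, c S * incRows n r S J := by
    intro I
    by_cases hI : Function.Injective I
    · let π := Tuple.sort I
      have hS : StrictMono (I ∘ π) :=
        (Tuple.monotone_sort I).strictMono_of_injective (hI.comp π.injective)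
      refine ⟨Pi.single (⟨I ∘ π, hS⟩ : Inc n r) ((Equiv.Perm.sign π : ℤˣ) : R), fun J => ?_⟩
      rw [Finset.sum_eq_single (⟨I ∘ π, hS⟩ : Inc n r) (fun S _ hSne => by
        rw [Pi.single_eq_of_ne hSne, zero_mul]) (fun h => absurd (Finset.mem_univ _) h),
        Pi.single_eq_same]
      simp only [asym, incRows, Matrix.of_apply, Matrix.submatrix_apply, id_eq]
      rw [show ((1 : Matrix (Fin n) (Fin n) R).submatrix (I ∘ π) J) =
        ((1 : Matrix (Fin n) (Fin n) R).submatrix I J).submatrix π id by
          rw [Matrix.submatrix_submatrix]; rfl, Matrix.det_permute, ← mul_assoc]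
      norm_cast
      simp
    · refine ⟨0, fun J => ?_⟩
      simp only [Function.Injective, not_forall] at hI
      obtain ⟨a, b, hab, hne⟩ := hI
      simp only [asym, Matrix.of_apply, Pi.zero_apply, zero_mul, Finset.sum_const_zero]
      exact Matrix.det_zero_of_row_eq hne (funext fun x => by rw [Matrix.submatrix_apply, Matrix.submatrix_apply, hab])
  choose c hc using key
  exact ⟨Matrix.of c, Matrix.ext fun I J => hc I J⟩

theorem card_inc : Fintype.card (Inc n r) = n.choose r := by
  classical
  let e : Inc n r ≃ {s : Finset (Fin n) // s.card = r} :=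
    { toFun := fun S => ⟨Finset.univ.image S.1, by
        rw [Finset.card_image_of_injective _ S.2.injective, Finset.card_univ, Fintype.card_fin]⟩
      invFun := fun s => ⟨s.1.orderEmbOfFin s.2, (s.1.orderEmbOfFin s.2).strictMono⟩
      left_inv := fun S => Subtype.ext
        (Finset.orderEmbOfFin_unique _ (fun x => Finset.mem_image_of_mem _ (Finset.mem_univ x)) S.2).symm
      right_inv := fun s => Subtype.ext (Finset.image_orderEmbOfFin_univ s.1 s.2) }
  rw [Fintype.card_congr e, Fintype.card_finset_len, Fintype.card_fin]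

end Kron

section RangeMul

variable {k : Type u} [Field k] {D : Type v} [DivisionRing D] [Algebra k D] [FiniteDimensional k D]

theorem finrank_range_mulRight {m : ℕ} (s : Matrix (Fin m) (Fin m) D) :
    ∃ t : ℕ, finrank k (LinearMap.range (LinearMap.mulRight k s)) = m * (finrank k D * t) := by
  let L : (Fin m → D) →ₗ[D] (Fin m → D) :=
    { toFun := fun v => v ᵥ* s
      map_add' := fun v w => Matrix.add_vecMul s v w
      map_smul' := fun c v => Matrix.smul_vecMul c v s }
  let Lk := L.restrictScalars k
  refine ⟨finrank D (LinearMap.range L), ?_⟩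
  let F : LinearMap.range (LinearMap.mulRight k s) →ₗ[k] (Fin m → LinearMap.range Lk) :=
    { toFun := fun x i => ⟨x.1 i, by
        obtain ⟨y, hy⟩ := x.2
        exact ⟨y i, by rw [← hy]; rfl⟩⟩
      map_add' := fun x y => rfl
      map_smul' := fun c x => rfl }
  have hF : Function.Bijective F := by
    refine ⟨fun x y hxy => Subtype.ext (Matrix.ext fun i j =>
      congrFun (congrArg Subtype.val (congrFun hxy i)) j), fun z => ?_⟩
    choose y hy using fun i => (z i).2
    refine ⟨⟨Matrix.of (fun i => (z i).1), Matrix.of y,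
      Matrix.ext fun i j => congrFun (hy i) j⟩, funext fun i => ?_⟩
    exact Subtype.ext rfl
  rw [(LinearEquiv.ofBijective F hF).finrank_eq, Module.finrank_pi_fintype, Finset.sum_const,
    Finset.card_univ, Fintype.card_fin, smul_eq_mul, Module.finrank_mul_finrank k D]
  congr 1

end RangeMul

variable {k : Type u} [Field k] {A : Type v} [Ring A] [Algebra k A] [Algebra.IsCentral k A]
  [IsSimpleRing A] [FiniteDimensional k A]

set_option maxHeartbeats 1600000 in
/-- For `A` of degree `n` the index of the `r`-th tensor power divides `n.choose r`. -/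
theorem exists_isIndex_tpow_dvd_choose {n : ℕ} (hA : finrank k A = n * n) (r : ℕ) :
    ∃ d' : ℕ, CSAGal.IsIndex k (CSAGal.tpow k A r) d' ∧ d' ∣ n.choose r := by
  have hn : 0 < n := Nat.pos_of_ne_zero fun h => by simp [h, Module.finrank_pos.ne'] at hA
  have : NeZero n := ⟨hn.ne'⟩
  obtain ⟨K, hfin, hgal, t, ht, ⟨φ₀⟩⟩ := exists_galois_splitting k A
  have htn : t = n := by
    have h := φ₀.toLinearEquiv.finrank_eq
    rw [Module.finrank_baseChange, hA, Module.finrank_matrix, Fintype.card_fin, Module.finrank_self,
      mul_one] at h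
    exact (Nat.mul_self_inj.mp h).symm
  subst htn
  let φ := φ₀
  let a1 : A →ₐ[k] Matrix (Fin t) (Fin t) K :=
    (φ.toAlgHom.restrictScalars k).comp Algebra.TensorProduct.includeRight
  let q : (I J : Fin r → Fin t) → MultilinearMap k (fun _ : Fin r => A) K := fun I J =>
    (MultilinearMap.mkPiAlgebra k (Fin r) K).compLinearMap fun i =>
      ((LinearMap.proj (J i)).comp (LinearMap.proj (I i))).comp a1.toLinearMap
  let μ : MultilinearMap k (fun _ : Fin r => A) (Matrix (Fin r → Fin t) (Fin r → Fin t) K) :=
    { toFun := fun a => kron t r (fun i => a1 (a i))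
      map_update_add' := fun a i x y => Matrix.ext fun I J => (q I J).map_update_add a i x y
      map_update_smul' := fun a i c x => Matrix.ext fun I J => (q I J).map_update_smul a i c x }
  have hμ : ∀ a, μ a = kron t r (fun i => a1 (a i)) := fun _ => rfl
  let Φ₀ : CSAGal.tpow k A r →ₐ[k] Matrix (Fin r → Fin t) (Fin r → Fin t) K :=
    PiTensorProduct.liftAlgHom μ
      (by rw [hμ]; simp [kron_one])
      (fun x y => by simp [hμ, kron_mul])
  let Φ : K ⊗[k] CSAGal.tpow k A r →ₐ[K] Matrix (Fin r → Fin t) (Fin r → Fin t) K :=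
    Algebra.TensorProduct.lift (Algebra.ofId K _) Φ₀ fun c x => Algebra.commutes c (Φ₀ x)
  let N := Fintype.card (Fin r → Fin t)
  have hdimR : finrank k (CSAGal.tpow k A r) = N * N := by
    rw [finrank_tpow, hA]; simp [N, mul_pow]
  have : Nonempty (Fin r → Fin t) := ⟨fun _ => ⟨0, hn⟩⟩
  have : IsSimpleRing (↥K ⊗[k] CSAGal.tpow k A r) := isSimpleRing_baseChange k _ ↥K
  have hinj' := RingHom.injective (R := ↥K ⊗[k] CSAGal.tpow k A r) Φ.toRingHom
  have hinj : Function.Injective Φ.toLinearMap := hinj'
  have hsurj : Function.Surjective Φ.toLinearMap :=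
    (LinearMap.injective_iff_surjective_of_finrank_eq_finrank (f := Φ.toLinearMap) (by
      rw [Module.finrank_baseChange, hdimR, Module.finrank_matrix, Module.finrank_self, mul_one])).mp hinj
  obtain ⟨s, hs⟩ := hsurj (asym t r)
  replace hs : Φ s = asym t r := hs
  have hΦ : ∀ (c : K) a, Φ (c ⊗ₜ[k] PiTensorProduct.tprod k a) = c • kron t r (fun i => a1 (a i)) := by
    intro c a
    refine (Algebra.TensorProduct.lift_tmul _ _ _ c _).trans ?_
    rw [Algebra.smul_def]
    congr 1
    exact PiTensorProduct.lift.tprod a
  have hfix : ∀ σ : K ≃ₐ[k] K, galAct σ _ s = s := by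
    intro σ
    obtain ⟨g, hg⟩ := exists_twist φ σ
    have key : ∀ x, Φ (galAct σ _ x) * kron t r (fun _ => (g : Matrix (Fin t) (Fin t) K)) =
        kron t r (fun _ => (g : Matrix (Fin t) (Fin t) K)) * (Φ x).map σ := by
      intro x
      induction x using TensorProduct.induction_on with
      | zero => simp
      | tmul c y =>
        induction y using PiTensorProduct.induction_on with
        | smul_tprod q a =>
          rw [TensorProduct.tmul_smul, map_smul, galAct_tmul, ← TensorProduct.tmul_smul,
            ← TensorProduct.smul_tmul, ← TensorProduct.tmul_smul, ← TensorProduct.smul_tmul, hΦ, hΦ,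
            ← map_smul, smul_mul_assoc, kron_mul]
          have e1 : ∀ i, a1 (a i) * (g : Matrix (Fin t) (Fin t) K) =
              (g : Matrix (Fin t) (Fin t) K) * (a1 (a i)).map σ := fun i => by
            have h := hg (1 ⊗ₜ[k] a i)
            simpa [a1, φ] using h
          simp only [e1]
          rw [← kron_mul]
          ext I J
          simp [Matrix.mul_apply, kron, map_prod, Finset.mul_sum, mul_left_comm]
        | add x y hx hy =>
          rw [TensorProduct.tmul_add, map_add, map_add, map_add, add_mul, hx, hy,
            Matrix.map_add _ (map_add σ), mul_add]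
      | add x y hx hy =>
        rw [map_add, map_add, map_add, add_mul, hx, hy, Matrix.map_add _ (map_add σ), mul_add]
    have hG : IsUnit (kron t r fun _ => (g : Matrix (Fin t) (Fin t) K)) :=
      ⟨⟨kron t r fun _ => (g : Matrix (Fin t) (Fin t) K),
        kron t r fun _ => ((g⁻¹ : (Matrix (Fin t) (Fin t) K)ˣ) : Matrix (Fin t) (Fin t) K),
        by simp [kron_mul, kron_one], by simp [kron_mul, kron_one]⟩, rfl⟩
    have hm : (asym t r : Matrix _ _ K).map σ = asym t r := map_asym t r σ.toAlgHom.toRingHom
    apply hinj
    refine hG.mul_left_injective ?_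
    change Φ _ * _ = Φ _ * _
    rw [key, hs, hm, kron_comm_asym]
  obtain ⟨s₀, rfl⟩ := mem_of_galAct_fixed s hfix
  let R := CSAGal.tpow k A r
  have hI : finrank k (LinearMap.range (LinearMap.mulRight k s₀)) = N * t.choose r := by
    let f : R →ₗ[k] LinearMap.range (LinearMap.mulRight k s₀) :=
      (LinearMap.mulRight k s₀).rangeRestrict
    let j : LinearMap.range (LinearMap.mulRight k s₀) →ₗ[k] R :=
      (LinearMap.range (LinearMap.mulRight k s₀)).subtype
    have hf : Function.Surjective (f.baseChange K) :=
      LinearMap.lTensor_surjective K (LinearMap.surjective_rangeRestrict _)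
    have hj : Function.Injective (j.baseChange K) :=
      Module.Flat.lTensor_preserves_injective_linearMap j Subtype.val_injective
    have hcomp : ∀ x : K ⊗[k] R, Φ (j.baseChange K (f.baseChange K x)) = Φ x * asym t r := by
      intro x
      induction x using TensorProduct.induction_on with
      | zero => simp
      | tmul c y =>
        have : (c ⊗ₜ[k] (y * s₀) : K ⊗[k] R) = (c ⊗ₜ[k] y) * (1 ⊗ₜ[k] s₀) := by simp
        simp only [LinearMap.baseChange_tmul]
        change Φ (c ⊗ₜ[k] (y * s₀)) = _
        rw [this, map_mul, hs]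
      | add x y hx hy => simp only [map_add, hx, hy, add_mul]
    let T : Matrix (Fin r → Fin t) (Inc t r) K →ₗ[K] Matrix (Fin r → Fin t) (Fin r → Fin t) K :=
      { toFun := fun Y => Y * incRows t r
        map_add' := fun Y Z => Matrix.add_mul Y Z _
        map_smul' := fun c Y => Matrix.smul_mul c Y _ }
    have hWE : (incRows t r : Matrix (Inc t r) _ K) *
        (1 : Matrix (Fin r → Fin t) (Fin r → Fin t) K).submatrix id (Subtype.val : Inc t r → _) = 1 := by
      ext S S'
      rw [Matrix.mul_apply, Finset.sum_eq_single S'.1 (fun b _ hb => by simp [hb])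
        (fun h => absurd (Finset.mem_univ _) h)]
      simp [incRows, asym_inc, Matrix.one_apply]
    have hT : Function.Injective T := fun Y Z h => by
      have := congrArg (· * (1 : Matrix (Fin r → Fin t) (Fin r → Fin t) K).submatrix id
        (Subtype.val : Inc t r → _)) h
      simpa [T, Matrix.mul_assoc, hWE] using this
    let J : K ⊗[k] LinearMap.range (LinearMap.mulRight k s₀) →ₗ[K]
        Matrix (Fin r → Fin t) (Fin r → Fin t) K :=
      Φ.toLinearMap.comp (j.baseChange K)
    have hJ : Function.Injective J := hinj.comp hj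
    obtain ⟨C, hC⟩ := exists_asym_eq_mul (R := K) t r
    have heq : LinearMap.range J = LinearMap.range T := by
      apply le_antisymm
      · rintro _ ⟨y, rfl⟩
        obtain ⟨x, rfl⟩ := hf y
        refine ⟨Φ x * C, ?_⟩
        change (Φ x * C) * incRows t r = Φ (j.baseChange K (f.baseChange K x))
        rw [hcomp, Matrix.mul_assoc, ← hC]
      · rintro _ ⟨Y, rfl⟩
        obtain ⟨x, hx⟩ := hsurj (Y *
          (1 : Matrix (Fin r → Fin t) (Fin r → Fin t) K).submatrix (Subtype.val : Inc t r → _) id)
        refine ⟨f.baseChange K x, ?_⟩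
        change Φ (j.baseChange K (f.baseChange K x)) = Y * incRows t r
        rw [hcomp, show Φ x = _ from hx, Matrix.mul_assoc]
        congr 1
        refine Matrix.ext fun S J' => ?_
        rw [Matrix.mul_apply, Finset.sum_eq_single S.1 (fun b _ hb => by simp [Ne.symm hb])
          (fun h => absurd (Finset.mem_univ _) h)]
        simp only [incRows, Matrix.submatrix_apply]
        erw [Matrix.one_apply_eq]
        erw [one_mul]
        rfl
    rw [← Module.finrank_baseChange (R := K), (LinearEquiv.ofInjective J hJ).finrank_eq, heq,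
      ← (LinearEquiv.ofInjective T hT).finrank_eq, Module.finrank_matrix, Module.finrank_self,
      mul_one, card_inc]
  obtain ⟨d', hd'⟩ := exists_isIndex (k := k) R
  obtain ⟨hd0, m, D, _, _, hm, _, _, hD, ⟨e⟩⟩ := isIndex_data hd'
  refine ⟨d', hd', ?_⟩
  obtain ⟨c, hc⟩ := finrank_range_mulRight (k := k) (e s₀)
  have hrange : finrank k (LinearMap.range (LinearMap.mulRight k s₀)) =
      finrank k (LinearMap.range (LinearMap.mulRight k (e s₀))) := by
    have : LinearMap.range (LinearMap.mulRight k (e s₀)) =
        (LinearMap.range (LinearMap.mulRight k s₀)).map e.toLinearMap := by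
      ext z
      constructor
      · rintro ⟨y, rfl⟩
        obtain ⟨x, rfl⟩ := e.surjective y
        exact ⟨x * s₀, ⟨x, rfl⟩, map_mul e x s₀⟩
      · rintro ⟨_, ⟨x, rfl⟩, rfl⟩
        exact ⟨e x, (map_mul e x s₀).symm⟩
    rw [this]
    exact (LinearEquiv.finrank_map_eq e.toLinearEquiv _).symm
  have hNm : N = m * d' := by
    have h := e.toLinearEquiv.finrank_eq
    rw [show finrank k R = N * N from hdimR, Module.finrank_matrix, Fintype.card_fin, hD] at h
    exact Nat.mul_self_inj.mp (by linarith)
  rw [hI, hc, hNm, hD] at hrange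
  refine ⟨c, Nat.eq_of_mul_eq_mul_left (Nat.mul_pos hm hd0) ?_⟩
  linarith

/-- The index of the `r`-th tensor power divides `d.choose r` for the index `d`. -/
theorem index_tpow_dvd_choose {D : Type v} [DivisionRing D] [Algebra k D] [Algebra.IsCentral k D]
    [FiniteDimensional k D] {m d : ℕ} (iso : A ≃ₐ[k] Matrix (Fin m) (Fin m) D)
    (hd : finrank k D = d ^ 2) (r : ℕ) {D' : Type w} [DivisionRing D'] [Algebra k D']
    [FiniteDimensional k D'] {m' d' : ℕ}
    (iso' : (⨂[k] _i : Fin r, A) ≃ₐ[k] Matrix (Fin m') (Fin m') D')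
    (hd' : finrank k D' = d' ^ 2) : d' ∣ d.choose r := by
  obtain ⟨hm, -⟩ := pos_of_algEquiv iso hd
  have : NeZero m := ⟨hm.ne'⟩
  obtain ⟨a, ha, hdvd⟩ := exists_isIndex_tpow_dvd_choose (k := k) (A := D) (hd.trans (pow_two d)) r
  have hcl : cl k (CSAGal.tpow k D r) = cl k (CSAGal.tpow k A r) := by
    rw [cl_tpow, cl_tpow, cl_congr iso, cl_matrix]
  have h2 := isIndex_of_matrix (A := CSAGal.tpow k A r) iso' hd'
  rwa [isIndex_unique h2 (isIndex_of_cl_eq hcl ha)]

end Groth.Agent.Brauer24
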